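import Groth.Agent.Lib.AlgSpEt.Sections
import Groth.Agent.Lib.AlgSpDescent.RedNoeth
import Groth.Agent.Lib.AlgSpDecent.Basic
import Groth.Agent.Lib.AlgSpace.Points
import Groth.Prelude.Def_AlgSpSub
import Groth.Prelude.Def_AlgSpOX
import Groth.Prelude.Def_ModSite

/-!
# Elementary facts on the small étale site of an algebraic space
-/

universe u

set_option backward.isDefEq.respectTransparency false

open CategoryTheory CategoryTheory.Limits AlgebraicGeometry Opposite TopologicalSpace

namespace Groth.Agent.AlgSpEt14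

open AlgSp Groth.Agent.AlgSpace Groth.Agent.AlgSpDecent Groth.Agent.AlgSpEt

variable {S : Scheme.{u}} {X : Sp S}

/-- An open of an object of the small étale site. -/
noncomputable def openSub (E : EtOver X) (V : E.obj.left.left.Opens) : EtOver X :=
  EtOver.mk ((yon S).map (Over.homMk V.ι rfl : Over.mk (V.ι ≫ E.obj.left.hom) ⟶ E.obj.left) ≫ E.obj.hom)
    ((repWith_isMultiplicative (S := S) @Etale).comp_mem _ _
      ((repWith_yon_map_iff _ _).2 (show Etale V.ι from inferInstance)) E.property)

noncomputable def openSubι (E : EtOver X) (V : E.obj.left.left.Opens) : openSub E V ⟶ E :=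
  EtOver.homMk (Over.homMk V.ι rfl) rfl

lemma range_openSubι (E : EtOver X) (V : E.obj.left.left.Opens) :
    Set.range (openSubι E V).hom.left.left = (V : Set _) :=
  V.range_ι

lemma ofPt_openSub (E : EtOver X) (V : E.obj.left.left.Opens) (t : ↥(openSub E V).obj.left.left) :
    Points.ofPt (openSub E V).obj.hom t = Points.ofPt E.obj.hom ((openSubι E V).hom.left.left t) :=
  ofPt_map_comp _ _ _

/-- A subsheaf of the final object is an open of the space of points. -/
theorem existsUnique_open (hX : IsAlgSpace X) (F : EtSh X (Type (u + 1)))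
    (hF : ∀ E : EtOver X, Subsingleton (F.obj.obj (op E))) :
    ∃! W : Set (Points X), IsOpen W ∧
      ∀ E : EtOver X, Nonempty (F.obj.obj (op E)) ↔ Set.range (Points.ofPt E.obj.hom) ⊆ W := by
  let W : Set (Points X) :=
    ⋃ (E : EtOver X) (_ : Nonempty (F.obj.obj (op E))), Set.range (Points.ofPt E.obj.hom)
  have hmem : ∀ x, x ∈ W ↔ ∃ E : EtOver X,
      Nonempty (F.obj.obj (op E)) ∧ x ∈ Set.range (Points.ofPt E.obj.hom) := fun x => by
    simp only [W, Set.mem_iUnion, exists_prop]
  have hW : IsOpen W := isOpen_iUnion fun E => isOpen_iUnion fun _ =>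
    (isOpenMap_ofPt E.obj.hom E.property).isOpen_range
  have key : ∀ E : EtOver X, Nonempty (F.obj.obj (op E)) ↔
      Set.range (Points.ofPt E.obj.hom) ⊆ W := by
    refine fun E => ⟨fun h x hx => (hmem x).2 ⟨E, h, hx⟩, fun h => ?_⟩
    let R : Sieve E :=
      { arrows := fun Y _ => Nonempty (F.obj.obj (op Y))
        downward_closed := fun {Y Z f} hf g => hf.map (F.obj.map g.op) }
    have hR : R ∈ etTop X E := by
      refine mem_etTop_of_lifts R fun p hp l => ?_
      obtain ⟨E', ⟨s⟩, v, hv⟩ := (hmem _).1 (h ⟨liftPt p l, rfl⟩)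
      obtain ⟨l', -⟩ := exists_lift_of_point p hp E' v (hv.trans (ofPt_liftPt p l))
      obtain ⟨m, hm, -⟩ := exists_lift_prod p l l'
      exact ⟨_, EtOver.prodFst E E', ⟨F.obj.map (EtOver.prodSnd E E').op s⟩, m, hm⟩
    let x : Presieve.FamilyOfElements F.obj R.arrows := fun Y f hf => hf.some
    have hx : x.Compatible := fun Y₁ Y₂ Z g₁ g₂ f₁ f₂ h₁ h₂ _ => (hF Z).elim _ _
    exact ⟨((isSheaf_iff_isSheaf_of_type _ _).1 F.property R hR).amalgamate x hx⟩
  refine ⟨W, ⟨hW, key⟩, fun W' ⟨hW', h'⟩ => ?_⟩
  obtain ⟨U, a, hae, has⟩ := hX.atlas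
  refine Set.Subset.antisymm (fun x hx => ?_) (fun x hx => ?_)
  · obtain ⟨u, rfl⟩ := surjective_ofPt has x
    let V : U.left.Opens := ⟨Points.ofPt a ⁻¹' W', Points.isOpen_iff.1 hW' U a⟩
    have hV : Set.range (Points.ofPt (openSub (EtOver.mk a hae) V).obj.hom) ⊆ W' := by
      rintro _ ⟨t, rfl⟩
      rw [ofPt_openSub]
      exact t.2
    refine (key _).1 ((h' _).2 hV) ⟨(⟨u, hx⟩ : V), ?_⟩
    exact ofPt_openSub (EtOver.mk a hae) V ⟨u, hx⟩
  · obtain ⟨E, hE, hxE⟩ := (hmem x).1 hx
    exact (h' E).1 hE hxE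

/-- The product with a chart covers. -/
lemma ofArrows_prodFst_mem (E E' : EtOver X) (hs : RepWith @Surjective E'.obj.hom) :
    Sieve.ofArrows (fun _ : PUnit.{1} => EtOver.prodObj E E') (fun _ => EtOver.prodFst E E') ∈
      etTop X E := by
  refine ofArrows_mem_etTop _ _ fun x => ⟨⟨⟩, ?_⟩
  have : Surjective (hs.1.snd E.obj.hom).left := hs.2 E.obj.hom _ _ (hs.1.isPullback E.obj.hom)
  exact this.surj x

/-- A reduced algebraic space has a separating reduced refinement of every object. -/
lemma exists_reduced_cover (hred : IsReducedSp X) (E : EtOver X) :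
    ∃ (P : EtOver X) (g : P ⟶ E), IsReduced P.obj.left.left ∧
      Sieve.ofArrows (fun _ : PUnit.{1} => P) (fun _ => g) ∈ etTop X E := by
  obtain ⟨U, a, hae, has, hU⟩ := hred
  have : IsReduced (EtOver.mk a hae).obj.left.left := hU
  have : Etale (EtOver.prodSnd E (EtOver.mk a hae)).hom.left.left := EtOver.etale_left _
  exact ⟨_, EtOver.prodFst E (EtOver.mk a hae),
    AlgSpDescent.isReduced_of_smooth (EtOver.prodSnd E (EtOver.mk a hae)).hom.left.left,
    ofArrows_prodFst_mem _ _ has⟩

lemma OEt_eq_zero_of_basicOpen (hred : IsReducedSp X) {E : EtOver X}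
    (s : ((OEt X).obj.obj (op E) : Type (u + 1)))
    (h : ∀ (P : EtOver X) (g : P ⟶ E),
      P.obj.left.left.basicOpen (ULift.down ((OEt X).obj.map g.op s)) = ⊥) : s = 0 := by
  obtain ⟨P, g, hP, hcov⟩ := exists_reduced_cover hred E
  refine section_ext (OEt X) _ hcov fun Y f hf => ?_
  obtain ⟨Z, k, m, ⟨i⟩, rfl⟩ := hf
  have h0 : (OEt X).obj.map g.op s = 0 :=
    ULift.ext _ _ ((@AlgebraicGeometry.basicOpen_eq_bot_iff P.obj.left.left hP _ _).1 (h P g))
  rw [op_comp, Functor.map_comp, ConcreteCategory.comp_apply, ConcreteCategory.comp_apply,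
    h0, map_zero, map_zero, map_zero]

theorem gsectEt_reduced (hred : IsReducedSp X) :
    _root_.IsReduced ↥(gsectEt (OEt X)) ∧
      ∀ f : ↥(gsectEt (OEt X)),
        (∀ E : EtOver X,
            E.obj.left.left.basicOpen ((limit.π (OEt X).obj (op E)) f).down = ⊥) → f = 0 := by
  have main : ∀ f : ↥(gsectEt (OEt X)),
      (∀ E : EtOver X, E.obj.left.left.basicOpen ((limit.π (OEt X).obj (op E)) f).down = ⊥) →
        f = 0 := by
    intro f hf
    refine Concrete.limit_ext _ _ _ fun E => ?_
    refine (OEt_eq_zero_of_basicOpen hred _ fun P g => ?_).trans (map_zero _).symm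
    rw [← ConcreteCategory.comp_apply, limit.w]
    exact hf P
  refine ⟨⟨fun f hf => main f fun E => ?_⟩, main⟩
  obtain ⟨n, hn⟩ := hf
  have hnil : IsNilpotent ((limit.π (OEt X).obj (op E)) f).down :=
    ⟨n, congrArg ULift.down (show ((limit.π (OEt X).obj (op E)) f) ^ n = 0 by
      rw [← map_pow, hn, map_zero])⟩
  exact E.obj.left.left.basicOpen_eq_bot_of_isNilpotent _ _ hnil

lemma isUnit_up {R : Type u} [CommRing R] (x : ULift.{u + 1} R) (h : IsUnit x.down) : IsUnit x :=
  h.map (ULift.ringEquiv.symm : R ≃+* ULift.{u + 1} R)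

theorem isLocallyRinged_OEt : ModSite.IsLocallyRinged (etTop X) (OEt X) := by
  refine ⟨fun E f => ?_, fun E h => ?_⟩
  · let U := E.obj.left.left
    let a : Γ(U, ⊤) := f.down
    let V : Bool → U.Opens := fun b => if b then U.basicOpen a else U.basicOpen (1 - a)
    refine ⟨_, ofArrows_mem_etTop (fun b => openSub E (V b)) (fun b => openSubι E (V b))
      fun x => ?_, ?_⟩
    · rcases IsLocalRing.isUnit_or_isUnit_one_sub_self
        ((U.presheaf.germ ⊤ x trivial).hom a) with hu | hu
      · exact ⟨true, (range_openSubι E _).symm ▸ (U.mem_basicOpen_top a x).2 hu⟩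
      · rw [← map_one (U.presheaf.germ ⊤ x trivial).hom, ← map_sub] at hu
        exact ⟨false, (range_openSubι E _).symm ▸ (U.mem_basicOpen_top (1 - a) x).2 hu⟩
    · rintro Y g ⟨Z, k, m, ⟨b⟩, rfl⟩
      have hu : ∀ c : Γ(U, ⊤), IsUnit ((U.basicOpen c).ι.appTop.hom c) := fun c => by
        rw [Scheme.Opens.ι_appTop, show
          (homOfLE (le_top : (U.basicOpen c).ι ''ᵁ ⊤ ≤ ⊤)).op =
            (homOfLE (U.basicOpen_le c)).op ≫ (homOfLE
              ((U.basicOpen c).ι_image_le ⊤)).op from Subsingleton.elim _ _,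
          Functor.map_comp, CommRingCat.hom_comp, RingHom.comp_apply]
        exact (RingedSpace.isUnit_res_basicOpen (X := U.toRingedSpace) c).map _
      cases b
      · right
        rw [op_comp, Functor.map_comp, CommRingCat.hom_comp, RingHom.comp_apply]
        exact IsUnit.map ((OEt X).obj.map k.op).hom
          (show IsUnit (((OEt X).obj.map (openSubι E (V false)).op).hom (1 - f)) from
            isUnit_up _ (hu (1 - a)))
      · left
        rw [op_comp, Functor.map_comp, CommRingCat.hom_comp, RingHom.comp_apply]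
        exact IsUnit.map ((OEt X).obj.map k.op).hom
          (show IsUnit (((OEt X).obj.map (openSubι E (V true)).op).hom f) from
            isUnit_up _ (hu a))
  · have he : IsEmpty ↥E.obj.left.left := ⟨fun x => by
      have h1 : (0 : Γ(E.obj.left.left, ⊤)) = 1 := congrArg ULift.down h
      have := congrArg (E.obj.left.left.presheaf.germ ⊤ x trivial).hom h1
      rw [map_zero, map_one] at this
      exact zero_ne_one this⟩
    refine (etTop X).superset_covering ?_
      (ofArrows_mem_etTop (fun i : PEmpty.{1} => i.elim) (fun i => i.elim) fun x => (he.false x).elim)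
    rintro Y g ⟨Z, k, m, ⟨i⟩, -⟩
    exact i.elim

theorem postcomp_isContinuous_isCocontinuous {Y : Sp S} (f : X ⟶ Y) (hf : IsEtaleMor f) :
    (EtOver.postcomp f hf).IsContinuous (etTop X) (etTop Y) ∧
      (EtOver.postcomp f hf).IsCocontinuous (etTop X) (etTop Y) := by
  refine ⟨?_, ⟨fun {E R} hR => ?_⟩⟩
  · have hpres : PreservesLimitsOfShape WalkingCospan (EtOver.postcomp f hf) := by
      constructor
      intro K
      have : PreservesLimit (cospan (K.map WalkingCospan.Hom.inl) (K.map WalkingCospan.Hom.inr))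
          (EtOver.postcomp f hf) := by
        refine preservesLimit_of_preserves_limit_cone (EtOver.pullbackIsLimit _ _)
          ((isLimitMapConePullbackConeEquiv _ _).symm ?_)
        exact PullbackCone.IsLimit.mk _
          (fun s => EtOver.homMk (pullback.lift s.fst.hom.left s.snd.hom.left
            (congrArg (fun k => k.hom.left) s.condition)) (by
            change (yon S).map _ ≫ ((yon S).map _ ≫ _) ≫ f = s.pt.obj.hom
            rw [Category.assoc, ← Functor.map_comp_assoc, pullback.lift_fst]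
            exact EtOver.w s.fst))
          (fun s => EtOver.hom_ext _ _ (pullback.lift_fst _ _ _))
          (fun s => EtOver.hom_ext _ _ (pullback.lift_snd _ _ _))
          (fun s m h₁ h₂ => EtOver.hom_ext _ _ (pullback.hom_ext
            ((congrArg (fun k => k.hom.left) h₁).trans (pullback.lift_fst _ _ _).symm)
            ((congrArg (fun k => k.hom.left) h₂).trans (pullback.lift_snd _ _ _).symm)))
      exact preservesLimit_of_iso_diagram _ (diagramIsoCospan K).symm
    refine Functor.isContinuous_toGrothendieck_of_pullbacksPreservedBy _ (etPre X) (etPre Y) ?_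
    intro E R hR
    obtain ⟨ι, Z, g, rfl⟩ := R.exists_eq_ofArrows
    rw [Precoverage.mem_comap_iff, Presieve.map_ofArrows]
    exact (ofArrows_mem_etPre_iff _ _).2 ((ofArrows_mem_etPre_iff Z g).1 hR)
  · obtain ⟨R₀, hR₀, hle⟩ := Precoverage.mem_toGrothendieck_iff_of_isStableUnderComposition.1 hR
    obtain ⟨ι, Z, g, rfl⟩ := R₀.exists_eq_ofArrows
    have hcov := (ofArrows_mem_etPre_iff Z g).1 hR₀
    let Z' : ι → EtOver X := fun i => EtOver.mk ((yon S).map (g i).hom.left ≫ E.obj.hom)
      ((repWith_isMultiplicative (S := S) @Etale).comp_mem _ _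
        ((repWith_yon_map_iff _ _).2 (EtOver.etale_left (g i))) E.property)
    let g' : ∀ i, Z' i ⟶ E := fun i => EtOver.homMk (g i).hom.left rfl
    refine (etTop X).superset_covering ?_ (ofArrows_mem_etTop Z' g' hcov)
    rintro Y' h ⟨W, k, m, ⟨i⟩, rfl⟩
    have h1 : R ((EtOver.postcomp f hf).map (g' i)) := by
      have h2 := R.downward_closed (hle (Z i) (g i) (Presieve.ofArrows.mk i))
        (EtOver.homMk (E := (EtOver.postcomp f hf).obj (Z' i)) (E' := Z i) (𝟙 _) (by
          change (yon S).map _ ≫ (Z i).obj.hom = ((yon S).map _ ≫ _) ≫ f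
          rw [CategoryTheory.Functor.map_id, Category.id_comp, Category.assoc, ← EtOver.w (g i)]
          rfl))
      convert h2 using 1
      exact EtOver.hom_ext _ _ (Category.id_comp _).symm
    show R ((EtOver.postcomp f hf).map (k ≫ g' i))
    rw [Functor.map_comp]
    exact R.downward_closed h1 _

end Groth.Agent.AlgSpEt14
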