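import Groth.Agent.Lib.AlgSpEt14.StalkProps
import Groth.Agent.Lib.Branch14.Main
import Mathlib.Data.Set.Card

/-!
# Branches of an algebraic space at a point read on the etale local ring
-/

universe u

set_option backward.isDefEq.respectTransparency.types false
set_option maxSynthPendingDepth 3

open CategoryTheory CategoryTheory.Limits AlgebraicGeometry Opposite

namespace Groth.Agent.StalkHens14

open AlgSp Groth.Agent.AlgSpEt Groth.Agent.Hens Groth.Agent.AlgSpace

theorem encard_minimalPrimes_of_ringEquiv {R : Type*} {R' : Type*} [CommRing R] [CommRing R']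
    (e : R ≃+* R') : (minimalPrimes R).encard = (minimalPrimes R').encard := by
  have hinj : ∀ {P Q : Ideal R'}, P.comap e.toRingHom = Q.comap e.toRingHom → P = Q :=
    fun h => Ideal.comap_injective_of_surjective e.toRingHom e.surjective h
  have himage : Ideal.comap e.toRingHom '' minimalPrimes R' = minimalPrimes R := by
    ext P
    constructor
    · rintro ⟨Q, hQ, rfl⟩
      have := hQ.1.1
      refine ⟨⟨inferInstance, bot_le⟩, fun P hP hle => ?_⟩
      have := hP.1
      have hPQ : P.comap e.symm.toRingHom ≤ Q := fun y hy => by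
        have : e (e.symm y) ∈ Q := hle hy
        rwa [e.apply_symm_apply] at this
      intro x hx
      have h2 : e.symm (e x) ∈ P := hQ.2 ⟨inferInstance, bot_le⟩ hPQ hx
      rwa [e.symm_apply_apply] at h2
    · intro hP
      have := hP.1.1
      refine ⟨P.comap e.symm.toRingHom, ⟨⟨inferInstance, bot_le⟩, fun Q hQ hle => ?_⟩, ?_⟩
      · have := hQ.1
        have hQP : Q.comap e.toRingHom ≤ P := fun x hx => by
          have : e.symm (e x) ∈ P := hle hx
          rwa [e.symm_apply_apply] at this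
        intro y hy
        have hy' : e.symm y ∈ P := hy
        have h2 : e (e.symm y) ∈ Q := hP.2 ⟨inferInstance, bot_le⟩ hQP hy'
        rwa [e.apply_symm_apply] at h2
      · ext x
        show e.symm (e x) ∈ P ↔ x ∈ P
        rw [e.symm_apply_apply]
  rw [← himage, Set.InjOn.encard_image (fun P _ Q _ => hinj)]

theorem encard_minimalPrimes_le_of_flat (R H : Type u) [CommRing R] [IsLocalRing R] [CommRing H]
    [IsLocalRing H] [Algebra R H] [IsLocalHom (algebraMap R H)] [Module.Flat R H] :
    (minimalPrimes R).encard ≤ (minimalPrimes H).encard := by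
  have := Module.FaithfullyFlat.of_flat_of_isLocalHom (A := R) (B := H)
  refine le_trans (Set.encard_le_encard fun p hp => ?_)
    (Set.encard_image_le (Ideal.comap (algebraMap R H)) _)
  obtain ⟨P, hP⟩ := PrimeSpectrum.comap_surjective_of_faithfullyFlat (A := R) (B := H) ⟨p, hp.1.1⟩
  obtain ⟨P', hP', hle⟩ := Ideal.exists_minimalPrimes_le (I := ⊥) (J := P.asIdeal) bot_le
  have h1 : P.asIdeal.comap (algebraMap R H) = p := congrArg PrimeSpectrum.asIdeal hP
  have := hP'.1.1
  exact ⟨P', hP', le_antisymm ((Ideal.comap_mono hle).trans h1.le)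
    (hp.2 ⟨inferInstance, bot_le⟩ ((Ideal.comap_mono hle).trans h1.le))⟩

/-- Finitely many minimal primes are already separated in one etale neighbourhood. -/
theorem exists_nbhd_encard_ge {R K : Type u} [CommRing R] [Field K] [Algebra R K] (n : ℕ)
    (h : (n : ℕ∞) ≤ (minimalPrimes (Hs R K)).encard) :
    ∃ i : Nbhd R K, (n : ℕ∞) ≤ (minimalPrimes i.G).encard := by
  classical
  obtain ⟨t, hts, htn⟩ := Set.exists_subset_encard_eq h
  have htf : t.Finite := Set.finite_of_encard_eq_coe htn
  let pairs := (htf.toFinset ×ˢ htf.toFinset).filter fun q => q.1 ≠ q.2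
  have hsep : ∀ q : Ideal (Hs R K) × Ideal (Hs R K),
      ∃ x, q.1 ≠ q.2 → ¬(x ∈ q.1 ↔ x ∈ q.2) := fun q => by
    by_cases hq : q.1 = q.2
    · exact ⟨0, fun h => absurd hq h⟩
    · have := mt SetLike.ext hq
      push Not at this
      obtain ⟨x, hx⟩ := this
      exact ⟨x, fun _ hh => by rcases hx with ⟨a, b⟩ | ⟨a, b⟩ <;> simp_all⟩
  choose x hx using hsep
  obtain ⟨i, hi⟩ := Hs.exists_of_finset pairs x
  refine ⟨i, ?_⟩
  rw [← htn]
  let φ : i.G →+* Hs R K := (Hs.of i).toRingHom
  have hinj : Set.InjOn (fun P : Ideal (Hs R K) => P.comap φ) t := fun P hP Q hQ hPQ => by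
    by_contra hne
    obtain ⟨y, hy⟩ := hi (P, Q) (Finset.mem_filter.2
      ⟨Finset.mem_product.2 ⟨htf.mem_toFinset.2 hP, htf.mem_toFinset.2 hQ⟩, hne⟩)
    refine hx (P, Q) hne ?_
    rw [← hy]
    exact SetLike.ext_iff.1 hPQ y
  rw [← hinj.encard_image]
  refine Set.encard_le_encard ?_
  rintro _ ⟨P, hP, rfl⟩
  have := (hts hP).1.1
  refine ⟨⟨Ideal.comap_isPrime _ _, bot_le⟩, fun Q hQ hle => ?_⟩
  have := hQ.1
  have hc : (P.comap φ).comap (algebraMap R i.G) = P.comap (algebraMap R (Hs R K)) := by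
    rw [Ideal.comap_comap]
    congr 1
    exact (Hs.of i).comp_algebraMap
  have hmin := Branch14.comap_mem_minimalPrimes_of_flat (R := R) (T := Hs R K) P (hts hP)
  have h1 : Q.comap (algebraMap R i.G) ≤ P.comap (algebraMap R (Hs R K)) :=
    (Ideal.comap_mono hle).trans hc.le
  have h2 : Q.comap (algebraMap R i.G) = (P.comap φ).comap (algebraMap R i.G) :=
    (le_antisymm h1 (hmin.2 ⟨inferInstance, bot_le⟩ h1)).trans hc.symm
  exact (@Algebra.QuasiFinite.eq_of_le_of_under_eq R i.G _ _ _ inferInstance Q (P.comap φ) _ _ hle h2).ge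

set_option backward.isDefEq.respectTransparency false

variable {S : Scheme.{u}} {X : Sp S}

/-- A chart with as many minimal primes as asked. -/
theorem exists_chart_encard_ge (hX : IsAlgSpace X) (p : FieldPt X) (hp : p.IsGeometric) (n : ℕ)
    (hn : (n : ℕ∞) ≤ (minimalPrimes ↥(OEtStalk p)).encard) :
    ∃ (U : Over S) (a : (yon S).obj U ⟶ X) (v : ↥U.left), RepWith @Etale a ∧
      Points.ofPt a v = Points.mk p ∧ (n : ℕ∞) ≤ (minimalPrimes ↥(U.left.presheaf.stalk v)).encard := by
  have := subsingleton_pt p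
  obtain ⟨U, a, x, ha, hx⟩ := exists_chart hX (Points.mk p)
  obtain ⟨W, hW, hxW, -⟩ := exists_isAffineOpen_mem_and_subset (x := x) (U := ⊤) trivial
  let E₀ : EtOver X := EtOver.mk a ha
  obtain ⟨l, hl⟩ := exists_lift_of_point p hp E₀ x hx
  let m : Spec (CommRingCat.of p.K) ⟶ U.left := l.1.left
  have hm : ∀ t, m t = x := fun t =>
    (congrArg m (Subsingleton.elim (α := PrimeSpectrum p.K) _ _)).trans hl
  have hsub : Set.range m ⊆ Set.range hW.fromSpec := by
    rintro _ ⟨t, rfl⟩
    rw [hm, hW.range_fromSpec]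
    exact hxW
  obtain ⟨b, hb⟩ := Spec.map_surjective (IsOpenImmersion.lift hW.fromSpec m hsub)
  let _ : Algebra Γ(U.left, W) p.K := b.hom.toAlgebra
  have hb' : Spec.map b ≫ hW.fromSpec = m := by rw [hb, IsOpenImmersion.lift_fac]
  let e := RingEquiv.ofBijective (comparison p E₀ hW.fromSpec l hb')
    ⟨comparison_injective p E₀ hW.fromSpec l hb' hX hp,
      comparison_surjective p E₀ hW.fromSpec l hb' hX hp⟩
  obtain ⟨i, hi⟩ := exists_nbhd_encard_ge n (hn.trans (encard_minimalPrimes_of_ringEquiv e).ge)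
  let N := nb p E₀ hW.fromSpec l hb' i.S i.σ
  let v : PrimeSpectrum i.S := ⟨i.q, inferInstance⟩
  have hv : (liftPt p N.2 : PrimeSpectrum i.S) = v := PrimeSpectrum.ext (Ideal.ext fun y => by
    show i.σ y ∈ IsLocalRing.maximalIdeal p.K ↔ i.σ y = 0
    rw [IsLocalRing.maximalIdeal_eq_bot, Ideal.mem_bot])
  refine ⟨N.1.obj.left, N.1.obj.hom, v, N.1.property, ?_, ?_⟩
  · rw [← hv]
    exact ofPt_liftPt p N.2
  · refine hi.trans (le_of_eq ?_)
    exact encard_minimalPrimes_of_ringEquiv
      (StructureSheaf.stalkIso (CommRingCat.of i.S) v).toRingEquiv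

variable (hX : IsAlgSpace X) (p : FieldPt X) (hp : p.IsGeometric) {U : Over S}
  (a : (yon S).obj U ⟶ X) (ha : RepWith @Etale a) (v : ↥U.left)
  (hv : Points.ofPt a v = Points.mk p)
include hX hp ha hv

theorem encard_minimalPrimes_le :
    (minimalPrimes ↥(U.left.presheaf.stalk v)).encard ≤ (minimalPrimes ↥(OEtStalk p)).encard := by
  obtain ⟨H, _, _, _, _, _, ⟨e⟩⟩ := exists_strictHenselization hX p hp a ha v hv
  rw [← encard_minimalPrimes_of_ringEquiv e]
  have := Hens.strictHenselization_flat ↥(U.left.presheaf.stalk v) H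
  exact encard_minimalPrimes_le_of_flat _ H

theorem encard_minimalPrimes_OEtStalk :
    (minimalPrimes ↥(OEtStalk p)).encard = Brnch.numGeomBranchesAt U.left v := by
  obtain ⟨H, _, _, _, _, _, ⟨e⟩⟩ := exists_strictHenselization hX p hp a ha v hv
  rw [← encard_minimalPrimes_of_ringEquiv e]
  exact Branch14.card_minimalPrimes_strictHenselization ↥(U.left.presheaf.stalk v) H

end Groth.Agent.StalkHens14
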