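import Groth.Agent.Lib.Hens.Henselization
import Groth.Agent.Lib.Hens.Fibre

/-!
# The colimit of etale neighbourhoods of a geometric point is the strict henselization
-/

open IsLocalRing Polynomial

open scoped TensorProduct

namespace Groth.Agent.HensPt14

open Groth.Agent.Hens

universe u v

theorem isSeparable_apply {R κ G F : Type u} [CommRing R] [Field κ] [Algebra R κ] [CommRing G]
    [Algebra R G] [Algebra.FormallyUnramified R G] [Algebra.EssFiniteType R G] [Field F] [Algebra κ F]
    [Algebra R F] [IsScalarTower R κ F] (φ : G →ₐ[R] F) (y : G) : IsSeparable κ (φ y) := by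
  have h := isSeparable_algHom_apply (κ := κ)
    (Algebra.TensorProduct.lift (Algebra.ofId κ F) φ fun _ _ => .all _ _) (1 ⊗ₜ y)
  rw [Algebra.TensorProduct.lift_tmul, map_one, one_mul] at h
  exact h

variable {R : Type u} [CommRing R] {K : Type u} [Field K] [Algebra R K]

/-- The residue field of the colimit maps to `K`. -/
noncomputable def resK : ResidueField (Hs R K) →+* K :=
  Ideal.Quotient.lift _ (Hs.res : Hs R K →ₐ[R] K).toRingHom fun x hx => (Hs.res_eq_zero_iff x).mpr hx

theorem resK_residue (x : Hs R K) : resK (residue _ x) = Hs.res x := rfl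

/-- The universal property, for a map on the residue field. -/
theorem existsUnique_lift (T : Type v) [CommRing T] [HenselianLocalRing T] [Algebra R T]
    (τ : ResidueField (Hs R K) →ₐ[R] ResidueField T) :
    ∃! g : Hs R K →ₐ[R] T, ∀ x, residue T (g x) = τ (residue _ x) := by
  let r : Hs R K →ₐ[R] ResidueField T := τ.comp (IsScalarTower.toAlgHom R (Hs R K) _)
  have hr : ∀ x, τ (residue _ x) = r x := fun x => rfl
  have hru : ∀ i : Nbhd R K, ∀ y : i.q.primeCompl,
      IsUnit (r (Hs.of i (algebraMap i.S i.G (y : i.S)))) :=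
    fun i y => ((IsLocalization.map_units (M := i.q.primeCompl) i.G y).map (Hs.of i)).map r
  have key : ∀ i : Nbhd R K, ∃ φ : i.G →ₐ[R] T, ∀ x, residue T (φ x) = r (Hs.of i x) := by
    intro i
    let ρ : i.S →ₐ[R] ResidueField T :=
      r.comp ((Hs.of i).comp (IsScalarTower.toAlgHom R i.S i.G))
    obtain ⟨φ₀, hφ₀, -⟩ := existsUnique_algHom_lift (henselianRing_maximalIdeal T) ρ
    have hφ₀' : ∀ x, residue T (φ₀ x) = ρ x := fun x => congr($hφ₀ x)
    have hu : ∀ y : i.q.primeCompl, IsUnit (φ₀ (y : i.S)) := fun y => by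
      rw [← residue_ne_zero_iff_isUnit, hφ₀']
      exact (hru i y).ne_zero
    let φ : i.G →ₐ[R] T := IsLocalization.liftAlgHom (M := i.q.primeCompl) (f := φ₀) hu
    refine ⟨φ, fun x => ?_⟩
    have : (IsScalarTower.toAlgHom R T (ResidueField T)).comp φ = r.comp (Hs.of i) := by
      refine IsLocalization.algHom_ext i.q.primeCompl ?_
      ext z
      show residue T (φ (algebraMap i.S i.G z)) = ρ z
      rw [show φ (algebraMap i.S i.G z) = φ₀ z from IsLocalization.lift_eq _ z]
      exact hφ₀' z
    exact congr($this x)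
  choose φ hφ using key
  let g : Hs R K →ₐ[R] T := DirectLimit.Algebra.lift (fun i : Nbhd R K => i.G)
    (fun i j h => Nbhd.map (i := i) (j := j) h) T φ (fun i j h x => by
      have : (φ j).comp (Nbhd.map h) = φ i := i.hom_ext fun z => by
        rw [← residue_eq_zero_iff, map_sub, AlgHom.comp_apply, hφ, hφ, Hs.of_map, sub_self]
      exact congr($this x))
  refine ⟨g, fun x => ?_, fun g' hg' => ?_⟩
  · obtain ⟨i, y, rfl⟩ := Hs.exists_of x
    exact hφ i y
  · refine AlgHom.ext fun x => ?_
    obtain ⟨i, y, rfl⟩ := Hs.exists_of x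
    have : g'.comp (Hs.of i) = g.comp (Hs.of i) := i.hom_ext fun z => by
      rw [← residue_eq_zero_iff, map_sub, sub_eq_zero]
      show residue T (g' _) = residue T (φ i _)
      rw [hg', hφ]
      rfl
    exact congr($this y)

variable (q : Ideal R) [q.IsPrime] (hq : ∀ r, algebraMap R K r = 0 ↔ r ∈ q)
  (Rq : Type u) [CommRing Rq] [IsLocalRing Rq] [Algebra R Rq] [IsLocalization.AtPrime Rq q]

include hq in
/-- At a separably closed point, the colimit is a strict henselization of the local ring. -/
theorem exists_isStrictHenselization [IsSepClosed K] :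
    ∃ (_ : Algebra Rq (Hs R K)) (_ : IsLocalHom (algebraMap Rq (Hs R K))),
      IsScalarTower R Rq (Hs R K) ∧ Hensel.IsStrictHenselization Rq (Hs R K) := by
  have hu : ∀ s : q.primeCompl, IsUnit (algebraMap R (Hs R K) s) := fun s => by
    rw [Hs.isUnit_iff, AlgHom.commutes]
    exact fun h => s.2 ((hq _).1 h)
  let f : Rq →+* Hs R K := IsLocalization.lift (M := q.primeCompl) hu
  let _ : Algebra Rq (Hs R K) := f.toAlgebra
  have : IsScalarTower R Rq (Hs R K) :=
    IsScalarTower.of_algebraMap_eq fun r => (IsLocalization.lift_eq _ r).symm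
  have hloc : IsLocalHom (algebraMap Rq (Hs R K)) := by
    refine ⟨fun a ha => ?_⟩
    obtain ⟨r, s, rfl⟩ := IsLocalization.exists_mk'_eq q.primeCompl a
    rw [IsLocalization.AtPrime.isUnit_mk'_iff Rq q]
    intro hr
    have hr' : IsUnit (algebraMap R (Hs R K) r) := by
      rw [IsScalarTower.algebraMap_apply R Rq (Hs R K), ← IsLocalization.mk'_spec Rq r s, map_mul,
        ← IsScalarTower.algebraMap_apply R Rq (Hs R K)]
      exact ha.mul (hu s)
    rw [Hs.isUnit_iff, AlgHom.commutes] at hr'
    exact hr' ((hq r).2 hr)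
  refine ⟨inferInstance, hloc, inferInstance, ⟨inferInstance, ⟨?_, ?_⟩, ?_⟩⟩
  · refine IsSepClosed.of_exists_root _ fun p hm hp hs => ?_
    obtain ⟨b, hb⟩ := IsSepClosed.exists_eval₂_eq_zero resK p
      (Polynomial.degree_pos_of_irreducible hp).ne' hs
    obtain ⟨g, hgmap, -, hgm⟩ := lifts_and_degree_eq_and_monic
      (mem_lifts_of_surjective residue_surjective p) hm
    have hmap : g.map (Hs.res : Hs R K →ₐ[R] K).toRingHom = p.map resK := by
      rw [← hgmap, Polynomial.map_map]
      rfl
    obtain ⟨a, ha, hab⟩ := Hs.exists_root g hgm b (by rw [hmap, eval_map]; exact hb) (by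
      rw [hmap, derivative_map, eval_map]
      exact hs.eval₂_derivative_ne_zero resK hb)
    refine ⟨residue _ a, ?_⟩
    rw [← hgmap, eval_map, eval₂_at_apply, show g.eval a = 0 from ha, map_zero]
  · refine ⟨fun z => ?_⟩
    obtain ⟨x, rfl⟩ := residue_surjective z
    obtain ⟨i, y, rfl⟩ := Hs.exists_of x
    have : IsScalarTower R (ResidueField Rq) (ResidueField (Hs R K)) :=
      IsScalarTower.of_algebraMap_eq fun r => by
        show residue _ (algebraMap R (Hs R K) r) = _
        rw [IsScalarTower.algebraMap_apply R Rq (Hs R K)]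
        rfl
    have h := isSeparable_apply (R := R) (κ := ResidueField Rq) (G := i.G)
      (F := ResidueField (Hs R K))
      ((IsScalarTower.toAlgHom R (Hs R K) (ResidueField (Hs R K))).comp (Hs.of i)) y
    exact h
  · intro T _ _ φ hφ τ hτ
    let _ : Algebra R T := (φ.comp (algebraMap R Rq)).toAlgebra
    let τ' : ResidueField (Hs R K) →ₐ[R] ResidueField T :=
      { τ with
        commutes' := fun r => by
          have h := congr($hτ (residue Rq (algebraMap R Rq r)))
          rw [RingHom.comp_apply, ResidueField.map_residue, ResidueField.map_residue,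
            ← IsScalarTower.algebraMap_apply] at h
          exact h }
    obtain ⟨g, hg, hgu⟩ := existsUnique_lift (R := R) (K := K) T τ'
    refine ⟨g.toRingHom, ⟨IsLocalization.ringHom_ext q.primeCompl (RingHom.ext fun r => ?_),
      hg⟩, fun g' hg' => ?_⟩
    · show g (algebraMap Rq (Hs R K) (algebraMap R Rq r)) = φ (algebraMap R Rq r)
      rw [← IsScalarTower.algebraMap_apply, AlgHom.commutes]
      rfl
    · have hc : ∀ r, g' (algebraMap R (Hs R K) r) = algebraMap R T r := fun r =>
        (congrArg g' (IsScalarTower.algebraMap_apply R Rq (Hs R K) r)).trans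
          congr($(hg'.1) (algebraMap R Rq r))
      let g'' : Hs R K →ₐ[R] T := { g' with commutes' := hc }
      exact congrArg AlgHom.toRingHom (hgu g'' hg'.2)

end Groth.Agent.HensPt14
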