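import Groth.Agent.Lib.AlgSpEt.Sections
import Groth.Agent.Lib.AlgSpEt14.HensPt

/-!
# The etale local ring of an algebraic space is the strict henselization of a chart
-/

universe u

set_option backward.isDefEq.respectTransparency false

open CategoryTheory CategoryTheory.Limits AlgebraicGeometry Opposite

open scoped TensorProduct

namespace Groth.Agent.StalkHens14

open AlgSp Groth.Agent.AlgSpEt Groth.Agent.Hens

variable {S : Scheme.{u}} {X : Sp S} (p : FieldPt X) (E₀ : EtOver X)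
  {R₀ : CommRingCat.{u}} (j : Spec R₀ ⟶ E₀.obj.left.left) [Etale j]

/-- The structure map of an affine etale neighbourhood. -/
noncomputable abbrev toChart (B : Type u) [CommRing B] [Algebra R₀ B] :
    Spec (CommRingCat.of B) ⟶ E₀.obj.left.left :=
  Spec.map (CommRingCat.ofHom (algebraMap R₀ B)) ≫ j

theorem etale_toChart (B : Type u) [CommRing B] [Algebra R₀ B] [Algebra.Etale R₀ B] :
    Etale (toChart E₀ j B) := by
  have : Etale (Spec.map (CommRingCat.ofHom (algebraMap R₀ B))) :=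
    HasRingHomProperty.Spec_iff.2 (RingHom.etale_algebraMap.2 inferInstance)
  infer_instance

/-- The site object of an etale algebra. -/
noncomputable abbrev obj (B : Type u) [CommRing B] [Algebra R₀ B] [Algebra.Etale R₀ B] : EtOver X :=
  (EtOver.ofChart E₀.obj.hom E₀.property).obj
    (MorphismProperty.Over.mk ⊤ (toChart E₀ j B) (etale_toChart E₀ j B))

/-- The morphism of an algebra map. -/
noncomputable abbrev objMap {B C : Type u} [CommRing B] [Algebra R₀ B] [Algebra.Etale R₀ B]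
    [CommRing C] [Algebra R₀ C] [Algebra.Etale R₀ C] (ψ : B →ₐ[R₀] C) :
    obj E₀ j C ⟶ obj E₀ j B :=
  (EtOver.ofChart E₀.obj.hom E₀.property).map
    (MorphismProperty.Over.homMk (Spec.map (CommRingCat.ofHom ψ.toRingHom)) (by
      change Spec.map (CommRingCat.ofHom ψ.toRingHom) ≫ toChart E₀ j B = toChart E₀ j C
      rw [← Spec.map_comp_assoc, ← CommRingCat.ofHom_comp, AlgHom.toRingHom_eq_coe,
        AlgHom.comp_algebraMap]))

variable [Algebra R₀ p.K] (l₀ : (FieldPt.liftsTo p).obj E₀)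
  (hl : Spec.map (CommRingCat.ofHom (algebraMap R₀ p.K)) ≫ j = l₀.1.left)

/-- The neighbourhood of an etale algebra with a point. -/
noncomputable abbrev nb (B : Type u) [CommRing B] [Algebra R₀ B] [Algebra.Etale R₀ B]
    (σ : B →ₐ[R₀] p.K) : EtNbhd p :=
  ⟨obj E₀ j B, ⟨Over.homMk (Spec.map (CommRingCat.ofHom σ.toRingHom)) (by
      change Spec.map (CommRingCat.ofHom σ.toRingHom) ≫ toChart E₀ j B ≫ E₀.obj.left.hom = p.pt.hom
      rw [← Category.assoc, ← Spec.map_comp_assoc, ← CommRingCat.ofHom_comp, AlgHom.toRingHom_eq_coe,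
        AlgHom.comp_algebraMap, hl]
      exact Over.w l₀.1), by
    change (yon S).map _ ≫ (yon S).map _ ≫ E₀.obj.hom = p.toHom
    refine Eq.trans ?_ l₀.2
    rw [← Functor.map_comp_assoc]
    congr 2
    ext1
    change Spec.map (CommRingCat.ofHom σ.toRingHom) ≫ toChart E₀ j B = l₀.1.left
    rw [← Spec.map_comp_assoc, ← CommRingCat.ofHom_comp, AlgHom.toRingHom_eq_coe,
      AlgHom.comp_algebraMap, hl]⟩⟩

/-- The morphism of neighbourhoods of a pointed algebra map. -/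
noncomputable def nbMap {B C : Type u} [CommRing B] [Algebra R₀ B] [Algebra.Etale R₀ B]
    [CommRing C] [Algebra R₀ C] [Algebra.Etale R₀ C] (σ : B →ₐ[R₀] p.K) (τ : C →ₐ[R₀] p.K)
    (ψ : B →ₐ[R₀] C) (h : τ.comp ψ = σ) :
    nb p E₀ j l₀ hl C τ ⟶ nb p E₀ j l₀ hl B σ :=
  ⟨objMap E₀ j ψ, Subtype.ext (by
    ext1
    change Spec.map (CommRingCat.ofHom τ.toRingHom) ≫ Spec.map (CommRingCat.ofHom ψ.toRingHom) =
      Spec.map (CommRingCat.ofHom σ.toRingHom)
    rw [← Spec.map_comp, ← h]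
    rfl)⟩

/-- The germ of an element of a pointed etale algebra. -/
noncomputable def germ (B : Type u) [CommRing B] [Algebra R₀ B] [Algebra.Etale R₀ B]
    (σ : B →ₐ[R₀] p.K) : B →+* OEtStalk p :=
  (stalkEtι p (OEt X) (nb p E₀ j l₀ hl B σ)).hom.comp
    (ULift.ringEquiv.symm.toRingHom.comp (Scheme.ΓSpecIso (CommRingCat.of B)).inv.hom)

theorem germ_apply (B : Type u) [CommRing B] [Algebra R₀ B] [Algebra.Etale R₀ B]
    (σ : B →ₐ[R₀] p.K) (x : B) :
    germ p E₀ j l₀ hl B σ x = stalkEtι p (OEt X) (nb p E₀ j l₀ hl B σ)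
      (ULift.up ((Scheme.ΓSpecIso (CommRingCat.of B)).inv.hom x)) := rfl

theorem germ_map {B C : Type u} [CommRing B] [Algebra R₀ B] [Algebra.Etale R₀ B]
    [CommRing C] [Algebra R₀ C] [Algebra.Etale R₀ C] (σ : B →ₐ[R₀] p.K) (τ : C →ₐ[R₀] p.K)
    (ψ : B →ₐ[R₀] C) (h : τ.comp ψ = σ) (x : B) :
    germ p E₀ j l₀ hl C τ (ψ x) = germ p E₀ j l₀ hl B σ x := by
  let f := nbMap p E₀ j l₀ hl σ τ ψ h
  let s : (OEt X).obj.obj (op (obj E₀ j B)) :=
    ULift.up ((Scheme.ΓSpecIso (CommRingCat.of B)).inv.hom x)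
  have w : stalkEtι p (OEt X) (nb p E₀ j l₀ hl C τ) ((OEt X).obj.map f.1.op s) =
      stalkEtι p (OEt X) (nb p E₀ j l₀ hl B σ) s :=
    ConcreteCategory.congr_hom (colimit.w (stalkEtDiagram p (OEt X)) f.op) s
  rw [germ_apply, germ_apply, ← w, OEt_map]
  refine congrArg _ (congrArg ULift.up ?_)
  exact ConcreteCategory.congr_hom (Scheme.ΓSpecIso_inv_naturality (CommRingCat.ofHom ψ.toRingHom)) x

theorem isUnit_germ {B : Type u} [CommRing B] [Algebra R₀ B] [Algebra.Etale R₀ B]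
    (σ : B →ₐ[R₀] p.K) {s : B} (hs : σ s ≠ 0) : IsUnit (germ p E₀ j l₀ hl B σ s) := by
  have := Algebra.Etale.of_isLocalizationAway (R := B) (A := Localization.Away s) s
  have : Algebra.Etale R₀ (Localization.Away s) := Algebra.Etale.comp R₀ B _
  let τ : Localization.Away s →ₐ[R₀] p.K :=
    IsLocalization.Away.liftAlgHom s (f := σ) (isUnit_iff_ne_zero.2 hs)
  have hτ : τ.comp (IsScalarTower.toAlgHom R₀ B (Localization.Away s)) = σ :=
    AlgHom.ext fun x => IsLocalization.Away.lift_eq (S := Localization.Away s) s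
      (g := σ.toRingHom) (isUnit_iff_ne_zero.2 hs) x
  rw [← germ_map p E₀ j l₀ hl σ τ _ hτ s]
  exact (IsLocalization.Away.algebraMap_isUnit s).map _

/-- The map from the local ring of a neighbourhood. -/
noncomputable def stalkMapAt (i : Nbhd R₀ p.K) : i.G →+* OEtStalk p :=
  IsLocalization.lift (M := i.q.primeCompl) (g := germ p E₀ j l₀ hl i.S i.σ)
    fun y => isUnit_germ p E₀ j l₀ hl i.σ y.2

theorem stalkMapAt_algebraMap (i : Nbhd R₀ p.K) (x : i.S) :
    stalkMapAt p E₀ j l₀ hl i (algebraMap i.S i.G x) = germ p E₀ j l₀ hl i.S i.σ x :=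
  IsLocalization.lift_eq _ x

theorem stalkMapAt_map {i k : Nbhd R₀ p.K} (h : i ≤ k) (x : i.G) :
    stalkMapAt p E₀ j l₀ hl k (Nbhd.map h x) = stalkMapAt p E₀ j l₀ hl i x := by
  have : Algebra.Etale R₀ (i.S ⊗[R₀] k.S) := Algebra.Etale.comp R₀ i.S _
  obtain ⟨m, e, he⟩ := Nbhd.exists_of (i.S ⊗[R₀] k.S)
    (Algebra.TensorProduct.lift i.σ k.σ fun _ _ => .all _ _)
  let ψ₁ : i.S →ₐ[R₀] m.S := e.toAlgHom.comp Algebra.TensorProduct.includeLeft
  let ψ₂ : k.S →ₐ[R₀] m.S := e.toAlgHom.comp Algebra.TensorProduct.includeRight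
  have h₁ : m.σ.comp ψ₁ = i.σ := by ext z; simp [ψ₁, he]
  have h₂ : m.σ.comp ψ₂ = k.σ := by ext z; simp [ψ₂, he]
  obtain ⟨him, him'⟩ := Nbhd.le_of_algHom ψ₁ h₁
  obtain ⟨hkm, hkm'⟩ := Nbhd.le_of_algHom ψ₂ h₂
  have key : ∀ {i : Nbhd R₀ p.K} {ψ : i.S →ₐ[R₀] m.S} (hψ : m.σ.comp ψ = i.σ) (him : i ≤ m)
      (_ : ∀ z, Nbhd.map him (algebraMap i.S i.G z) = algebraMap m.S m.G (ψ z)) (z : i.G),
      stalkMapAt p E₀ j l₀ hl m (Nbhd.map him z) = stalkMapAt p E₀ j l₀ hl i z := by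
    intro i ψ hψ him him' z
    have : (stalkMapAt p E₀ j l₀ hl m).comp (Nbhd.map him).toRingHom =
        stalkMapAt p E₀ j l₀ hl i := by
      refine IsLocalization.ringHom_ext i.q.primeCompl (RingHom.ext fun w => ?_)
      show stalkMapAt p E₀ j l₀ hl m (Nbhd.map him (algebraMap i.S i.G w)) = _
      rw [him', stalkMapAt_algebraMap, RingHom.comp_apply, stalkMapAt_algebraMap,
        germ_map p E₀ j l₀ hl i.σ m.σ ψ hψ]
    exact congr($this z)
  rw [← key h₁ him him' x, ← key h₂ hkm hkm' (Nbhd.map h x)]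
  exact congrArg _ (DirectedSystem.map_map' (f := fun i j h => Nbhd.map (i := i) (j := j) h) h hkm x)

/-- The comparison map. -/
noncomputable def comparison : Hs R₀ p.K →+* OEtStalk p :=
  DirectLimit.Ring.lift (fun i : Nbhd R₀ p.K => i.G) (fun i j h => Nbhd.map (i := i) (j := j) h)
    _ (stalkMapAt p E₀ j l₀ hl) fun _ _ h x => stalkMapAt_map p E₀ j l₀ hl h x

theorem comparison_of (i : Nbhd R₀ p.K) (x : i.G) :
    comparison p E₀ j l₀ hl (Hs.of i x) = stalkMapAt p E₀ j l₀ hl i x := rfl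

/-- The base neighbourhood. -/
noncomputable abbrev base : EtNbhd p := nb p E₀ j l₀ hl R₀ (Algebra.ofId R₀ p.K)

/-- Affine refinement of a neighbourhood over the chart. -/
theorem exists_refine (M : EtNbhd p) (g : M ⟶ base p E₀ j l₀ hl) :
    ∃ (B : CommRingCat.{u}) (_ : Algebra R₀ B) (_ : Algebra.Etale R₀ B) (σ : B →ₐ[R₀] p.K)
      (θ : nb p E₀ j l₀ hl B σ ⟶ M),
      θ.1.hom.left.left ≫ g.1.hom.left.left =
        Spec.map (CommRingCat.ofHom (algebraMap R₀ B)) := by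
  have := subsingleton_pt p
  obtain ⟨B, i, hi, hv, -⟩ := Scheme.exists_affine_mem_range_and_range_subset
    (X := M.1.obj.left.left) (x := liftPt p M.2) (U := ⊤) trivial
  have : Etale g.1.hom.left.left := EtOver.etale_left g.1
  let g' : M.1.obj.left.left ⟶ Spec R₀ := g.1.hom.left.left
  have : Etale g' := EtOver.etale_left g.1
  obtain ⟨a, ha⟩ := Spec.map_surjective (i ≫ g')
  let _ : Algebra R₀ B := a.hom.toAlgebra
  have : Etale (Spec.map a) := by rw [ha]; infer_instance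
  have hB : Algebra.Etale R₀ B := HasRingHomProperty.Spec_iff.1 this
  let m : Spec (CommRingCat.of p.K) ⟶ M.1.obj.left.left := M.2.1.left
  have hsub : Set.range m ⊆ Set.range i := by
    rintro _ ⟨t, rfl⟩
    obtain ⟨v, hv⟩ := hv
    exact ⟨v, hv.trans (congrArg m (Subsingleton.elim (α := PrimeSpectrum p.K) _ _))⟩
  obtain ⟨b, hb⟩ := Spec.map_surjective (IsOpenImmersion.lift i m hsub)
  have hb' : Spec.map b ≫ i = m := by rw [hb, IsOpenImmersion.lift_fac]
  have hm : m ≫ g' = Spec.map (CommRingCat.ofHom (algebraMap R₀ p.K)) :=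
    congrArg (fun l => l.1.left) g.2
  have hab : a ≫ b = CommRingCat.ofHom (algebraMap R₀ p.K) := Spec.map_injective (by
    rw [Spec.map_comp, ha, reassoc_of% hb', hm])
  let σ : B →ₐ[R₀] p.K :=
    { b.hom with commutes' := fun r => congrArg (fun t => t.hom r) hab }
  refine ⟨B, inferInstance, hB, σ, ?_⟩
  let q : obj E₀ j B ⟶ obj E₀ j R₀ := objMap E₀ j (Algebra.ofId R₀ B)
  let i' : (obj E₀ j B).obj.left ⟶ M.1.obj.left := Over.homMk i (by
    refine Eq.trans ?_ (Over.w q.hom.left)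
    rw [← Over.w g.1.hom.left, ← Category.assoc, ← ha]
    rfl)
  let θ : obj E₀ j B ⟶ M.1 := EtOver.homMk i' (by
    rw [← EtOver.w g.1, ← EtOver.w q, ← Functor.map_comp_assoc]
    congr 2
    ext1
    exact ha.symm)
  refine ⟨⟨θ, Subtype.ext ?_⟩, ha.symm⟩
  ext1
  exact hb'

theorem comparison_surjective (hX : IsAlgSpace X) (hp : p.IsGeometric) :
    Function.Surjective (comparison p E₀ j l₀ hl) := by
  intro z
  obtain ⟨M, s, rfl⟩ := exists_stalkEtι_eq hX p hp (OEt X) z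
  have := isCofiltered_etNbhd hX p hp
  obtain ⟨M', α, g, -⟩ := IsCofilteredOrEmpty.cone_objs M (base p E₀ j l₀ hl)
  obtain ⟨B, _, _, σ, θ, -⟩ := exists_refine p E₀ j l₀ hl M' g
  let s' := (OEt X).obj.map (θ ≫ α).1.op s
  let x : B := (Scheme.ΓSpecIso (CommRingCat.of B)).hom.hom s'.down
  obtain ⟨i, e, he⟩ := Nbhd.exists_of B σ
  refine ⟨Hs.of i (algebraMap i.S i.G (e x)), ?_⟩
  rw [comparison_of, stalkMapAt_algebraMap]
  refine (germ_map p E₀ j l₀ hl σ i.σ e.toAlgHom (AlgHom.ext he) x).trans ?_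
  rw [germ_apply]
  refine Eq.trans ?_ (ConcreteCategory.congr_hom
    (colimit.w (stalkEtDiagram p (OEt X)) (θ ≫ α).op) s)
  change stalkEtι p (OEt X) _ _ = stalkEtι p (OEt X) _ s'
  refine congrArg (stalkEtι p (OEt X) _) ?_
  refine congrArg ULift.up ?_
  exact (Scheme.ΓSpecIso (CommRingCat.of B)).hom_inv_id_apply s'.down

theorem eq_zero_of_germ_eq_zero (hX : IsAlgSpace X) (hp : p.IsGeometric) (i : Nbhd R₀ p.K)
    (x : i.S) (h : germ p E₀ j l₀ hl i.S i.σ x = 0) : Hs.of i (algebraMap i.S i.G x) = 0 := by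
  rw [germ_apply, ← map_zero (stalkEtι p (OEt X) (nb p E₀ j l₀ hl i.S i.σ)).hom] at h
  obtain ⟨Y, f, y, hy, he⟩ := (stalkEtι_eq_iff hX p hp (OEt X) _ _ _).1 h
  let M : EtNbhd p := ⟨Y, y⟩
  let f' : M ⟶ nb p E₀ j l₀ hl i.S i.σ := ⟨f, hy⟩
  let g : M ⟶ base p E₀ j l₀ hl :=
    f' ≫ nbMap p E₀ j l₀ hl _ _ (Algebra.ofId R₀ i.S) (Subsingleton.elim _ _)
  obtain ⟨B, _, _, τ, θ, hθ⟩ := exists_refine p E₀ j l₀ hl M g
  let F : Spec B ⟶ Spec (CommRingCat.of i.S) := (θ.1 ≫ f).hom.left.left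
  obtain ⟨c, hc⟩ := Spec.map_surjective F
  have hcomm : CommRingCat.ofHom (algebraMap R₀ i.S) ≫ c = CommRingCat.ofHom (algebraMap R₀ B) :=
    Spec.map_injective (by rw [Spec.map_comp, hc, ← hθ]; rfl)
  let ψ : i.S →ₐ[R₀] B :=
    { c.hom with commutes' := fun r => congrArg (fun t => t.hom r) hcomm }
  have hψ : τ.comp ψ = i.σ := by
    have h1 : Spec.map (CommRingCat.ofHom τ.toRingHom) ≫ F =
        Spec.map (CommRingCat.ofHom i.σ.toRingHom) :=
      congrArg (fun l => l.1.left) (θ ≫ f').2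
    rw [← hc, ← Spec.map_comp] at h1
    exact AlgHom.ext fun z => congrArg (fun t => t.hom z) (Spec.map_injective h1)
  have hx : ψ x = 0 := by
    have h2 := congrArg ((OEt X).obj.map θ.1.op) he
    rw [← ConcreteCategory.comp_apply, ← ConcreteCategory.comp_apply, ← Functor.map_comp,
      ← op_comp, OEt_map] at h2
    rw [map_zero] at h2
    have h3 : F.appTop.hom ((Scheme.ΓSpecIso (CommRingCat.of i.S)).inv.hom x) = 0 :=
      congrArg ULift.down h2
    rw [← hc] at h3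
    have h4 : (Scheme.ΓSpecIso B).inv.hom (c.hom x) = 0 :=
      (ConcreteCategory.congr_hom (Scheme.ΓSpecIso_inv_naturality c) x).trans h3
    have h5 := congrArg (Scheme.ΓSpecIso B).hom.hom h4
    rw [map_zero, ← CommRingCat.comp_apply, Iso.inv_hom_id] at h5
    exact h5
  obtain ⟨k, e, he'⟩ := Nbhd.exists_of B τ
  obtain ⟨hik, hik'⟩ := Nbhd.le_of_algHom (i := i) (j := k) (e.toAlgHom.comp ψ) (by
    ext z
    show k.σ (e (ψ z)) = i.σ z
    rw [he', ← hψ]
    rfl)
  rw [← Hs.of_map hik, hik', AlgHom.comp_apply, hx]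
  simp

theorem comparison_injective (hX : IsAlgSpace X) (hp : p.IsGeometric) :
    Function.Injective (comparison p E₀ j l₀ hl) := by
  refine (injective_iff_map_eq_zero _).2 fun z hz => ?_
  obtain ⟨i, w, rfl⟩ := Hs.exists_of z
  obtain ⟨x, t, rfl⟩ := IsLocalization.exists_mk'_eq i.q.primeCompl w
  have hw : IsLocalization.mk' i.G x t * algebraMap i.S i.G t = algebraMap i.S i.G x :=
    IsLocalization.mk'_spec _ x t
  rw [comparison_of] at hz
  have hx : germ p E₀ j l₀ hl i.S i.σ x = 0 := by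
    rw [← stalkMapAt_algebraMap, ← hw, map_mul, hz, zero_mul]
  have h0 := eq_zero_of_germ_eq_zero p E₀ j l₀ hl hX hp i x hx
  rw [← hw, map_mul] at h0
  exact ((IsLocalization.map_units (M := i.q.primeCompl) i.G t).map (Hs.of i)).mul_left_eq_zero.1 h0

end Groth.Agent.StalkHens14

namespace Groth.Agent.StalkHens14

open AlgSp Groth.Agent.AlgSpEt Groth.Agent.Hens

variable {S : Scheme.{u}} {X : Sp S}

/-- The etale local ring at a geometric point is a strict henselization of the local ring of any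
chart at any point over it. -/
theorem exists_strictHenselization (hX : IsAlgSpace X) (p : FieldPt X) (hp : p.IsGeometric)
    {U : Over S} (a : (yon S).obj U ⟶ X) (ha : RepWith @Etale a) (x : ↥U.left)
    (hx : Points.ofPt a x = Points.mk p) :
    ∃ (H : Type u) (_ : CommRing H) (_ : IsLocalRing H)
      (_ : Algebra ↥(U.left.presheaf.stalk x) H)
      (_ : IsLocalHom (algebraMap ↥(U.left.presheaf.stalk x) H)),
      Hensel.IsStrictHenselization ↥(U.left.presheaf.stalk x) H ∧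
        Nonempty (H ≃+* ↥(OEtStalk p)) := by
  have : IsAlgClosed p.K := hp
  have := subsingleton_pt p
  obtain ⟨W, hW, hxW, -⟩ := exists_isAffineOpen_mem_and_subset (x := x) (U := ⊤) trivial
  let E₀ : EtOver X := EtOver.mk a ha
  obtain ⟨l, hl⟩ := exists_lift_of_point p hp E₀ x hx
  let m : Spec (CommRingCat.of p.K) ⟶ U.left := l.1.left
  have hm : ∀ t, m t = x := fun t =>
    (congrArg m (Subsingleton.elim (α := PrimeSpectrum p.K) _ _)).trans hl
  have hsub : Set.range m ⊆ Set.range hW.fromSpec := by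
    rintro _ ⟨t, rfl⟩
    rw [hm, hW.range_fromSpec]
    exact hxW
  obtain ⟨b, hb⟩ := Spec.map_surjective (IsOpenImmersion.lift hW.fromSpec m hsub)
  let _ : Algebra Γ(U.left, W) p.K := b.hom.toAlgebra
  have hb' : Spec.map b ≫ hW.fromSpec = m := by rw [hb, IsOpenImmersion.lift_fac]
  let q := hW.primeIdealOf ⟨x, hxW⟩
  have hq : ∀ r, algebraMap Γ(U.left, W) p.K r = 0 ↔ r ∈ q.asIdeal := by
    have hpt : Spec.map b (IsLocalRing.closedPoint p.K) = q := by
      apply hW.fromSpec.isOpenEmbedding.injective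
      rw [hW.fromSpec_primeIdealOf, ← Scheme.Hom.comp_apply, hb']
      exact hm _
    intro r
    rw [← hpt]
    show _ ↔ b.hom r ∈ IsLocalRing.maximalIdeal p.K
    rw [IsLocalRing.maximalIdeal_eq_bot, Ideal.mem_bot]
    rfl
  let _ : Algebra Γ(U.left, W) ↥(U.left.presheaf.stalk x) :=
    TopCat.Presheaf.algebra_section_stalk U.left.presheaf (⟨x, hxW⟩ : W)
  have : IsLocalization.AtPrime ↥(U.left.presheaf.stalk x) q.asIdeal :=
    hW.isLocalization_stalk ⟨x, hxW⟩
  obtain ⟨i₁, i₂, -, h⟩ := HensPt14.exists_isStrictHenselization (K := p.K) q.asIdeal hq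
    ↥(U.left.presheaf.stalk x)
  exact ⟨Hs Γ(U.left, W) p.K, inferInstance, inferInstance, i₁, i₂, h,
    ⟨RingEquiv.ofBijective (comparison p E₀ hW.fromSpec l hb')
      ⟨comparison_injective p E₀ hW.fromSpec l hb' hX hp,
        comparison_surjective p E₀ hW.fromSpec l hb' hX hp⟩⟩⟩

end Groth.Agent.StalkHens14
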