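import Groth.Agent.Lib.AlgSpEt14.Stalk
import Groth.Agent.Lib.Hens.Transfer
import Groth.Agent.Lib.Hens.Reduced
import Groth.Agent.Lib.Hens.Noetherian

/-!
# Properties read on the etale local ring
-/

universe u

open CategoryTheory AlgebraicGeometry

namespace Groth.Agent.StalkHens14

open AlgSp Groth.Agent.AlgSpEt Groth.Agent.AlgSpace

variable {S : Scheme.{u}} {X : Sp S}

/-- There is a chart through every point. -/
theorem exists_chart (hX : IsAlgSpace X) (x : Points X) :
    ∃ (U : Over S) (a : (yon S).obj U ⟶ X) (v : ↥U.left),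
      RepWith @Etale a ∧ Points.ofPt a v = x := by
  obtain ⟨U, a, ha, has⟩ := hX.atlas
  obtain ⟨v, hv⟩ := surjective_ofPt has x
  exact ⟨U, a, v, ha, hv⟩

/-- There is a geometric point over every point of a chart. -/
theorem exists_geometric_over {U : Over S} (a : (yon S).obj U ⟶ X) (ha : RepWith @Etale a)
    (v : ↥U.left) :
    ∃ p : FieldPt X, p.IsGeometric ∧ Points.mk p = Points.ofPt a v := by
  obtain ⟨p, hp, l, hl⟩ := exists_geometric_lift (EtOver.mk a ha) v
  refine ⟨p, hp, ?_⟩
  rw [← ofPt_liftPt p l, hl]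
  rfl

/-- There is a geometric point over every point. -/
theorem exists_geometric_mk (hX : IsAlgSpace X) (x : Points X) :
    ∃ p : FieldPt X, p.IsGeometric ∧ Points.mk p = x := by
  obtain ⟨U, a, v, ha, rfl⟩ := exists_chart hX x
  exact exists_geometric_over a ha v

section

variable (R H : Type u) [CommRing R] [IsLocalRing R] [CommRing H] [IsLocalRing H] [Algebra R H]
  [IsLocalHom (algebraMap R H)] [Hensel.IsStrictHenselization R H]

theorem isRegularLocalRing_iff : IsRegularLocalRing H ↔ IsRegularLocalRing R := by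
  have := Hens.strictHenselization_flat R H
  constructor <;> intro h
  · have : IsNoetherianRing R :=
      (Hens.strictHenselization_isNoetherianRing_iff R H).1 inferInstance
    exact (RegLoc.isRegularLocalRing_iff_of_map_maximalIdeal
      (Hens.strictHenselization_map_maximalIdeal R H)).2 h
  · have : IsNoetherianRing H := Hens.strictHenselization_isNoetherianRing R H
    exact (RegLoc.isRegularLocalRing_iff_of_map_maximalIdeal
      (Hens.strictHenselization_map_maximalIdeal R H)).1 h

end

variable (hX : IsAlgSpace X) (p : FieldPt X) (hp : p.IsGeometric) {U : Over S}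
  (a : (yon S).obj U ⟶ X) (ha : RepWith @Etale a) (v : ↥U.left)
  (hv : Points.ofPt a v = Points.mk p)
include hX hp ha hv

theorem isLocalRing_OEtStalk : IsLocalRing ↥(OEtStalk p) := by
  obtain ⟨H, _, _, _, _, -, ⟨e⟩⟩ := exists_strictHenselization hX p hp a ha v hv
  exact e.isLocalRing

theorem isRegularLocalRing_OEtStalk_iff :
    IsRegularLocalRing ↥(OEtStalk p) ↔ IsRegularLocalRing ↥(U.left.presheaf.stalk v) := by
  obtain ⟨H, _, _, _, _, _, ⟨e⟩⟩ := exists_strictHenselization hX p hp a ha v hv
  rw [← isRegularLocalRing_iff ↥(U.left.presheaf.stalk v) H]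
  exact ⟨fun h => IsRegularLocalRing.of_ringEquiv e.symm, fun h => IsRegularLocalRing.of_ringEquiv e⟩

theorem isReduced_OEtStalk_iff :
    _root_.IsReduced ↥(OEtStalk p) ↔ _root_.IsReduced ↥(U.left.presheaf.stalk v) := by
  obtain ⟨H, _, _, _, _, _, ⟨e⟩⟩ := exists_strictHenselization hX p hp a ha v hv
  rw [← Hens.strictHenselization_isReduced_iff ↥(U.left.presheaf.stalk v) H]
  exact ⟨fun _ => isReduced_of_injective e.toRingHom e.injective,
    fun _ => isReduced_of_injective e.symm.toRingHom e.symm.injective⟩

theorem ringKrullDim_OEtStalk :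
    ringKrullDim ↥(OEtStalk p) = ringKrullDim ↥(U.left.presheaf.stalk v) := by
  obtain ⟨H, _, _, _, _, _, ⟨e⟩⟩ := exists_strictHenselization hX p hp a ha v hv
  rw [← Hens.strictHenselization_ringKrullDim ↥(U.left.presheaf.stalk v) H]
  exact (ringKrullDim_eq_of_ringEquiv e).symm

theorem isNoetherianRing_OEtStalk [IsNoetherianRing ↥(U.left.presheaf.stalk v)] :
    IsNoetherianRing ↥(OEtStalk p) := by
  obtain ⟨H, _, _, _, _, _, ⟨e⟩⟩ := exists_strictHenselization hX p hp a ha v hv
  have := Hens.strictHenselization_isNoetherianRing ↥(U.left.presheaf.stalk v) H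
  exact isNoetherianRing_of_ringEquiv H e

end Groth.Agent.StalkHens14
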